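import Groth.Agent.Lib.Helper32.GeomConn.Point

universe u

open CategoryTheory Limits AlgebraicGeometry

namespace Groth.Agent.Lib.Helper32.GeomConn

variable (k : Type u) [Field k]

theorem isPreconnected_fibre {X T : Scheme.{u}} (f : X ⟶ Spec (CommRingCat.of k))
    [PreconnectedSpace ↥(pullback f
      (Spec.map (CommRingCat.ofHom (algebraMap k (AlgebraicClosure k)))))]
    (g : T ⟶ Spec (CommRingCat.of k)) [IsFinite g] (t : T) :
    _root_.IsPreconnected ((pullback.fst g f).base ⁻¹' {t}) := by
  set ι := Spec.map (CommRingCat.ofHom (algebraMap k (AlgebraicClosure k))) with hι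
  obtain ⟨τ, hτ, hrange⟩ := exists_geomPoint k g t
  let m : pullback f ι ⟶ pullback g f :=
    pullback.lift (pullback.snd f ι ≫ τ) (pullback.fst f ι)
      (by rw [Category.assoc, hτ, pullback.condition])
  have hm₁ : m ≫ pullback.fst g f = pullback.snd f ι ≫ τ := pullback.lift_fst _ _ _
  have hm₂ : m ≫ pullback.snd g f = pullback.fst f ι := pullback.lift_snd _ _ _
  have hpb : IsPullback m (pullback.snd f ι) (pullback.fst g f) τ := by
    refine IsPullback.of_right (h₁₂ := pullback.snd g f) (v₁₃ := f) (h₂₂ := g) ?_ hm₁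
      (IsPullback.of_hasPullback g f).flip
    rw [hm₂, hτ]
    exact IsPullback.of_hasPullback f ι
  have hr : (pullback.fst g f).base ⁻¹' {t} = Set.range m := by
    ext z
    constructor
    · intro hz
      have hz' : pullback.fst g f z = t := hz
      have ht : t ∈ Set.range τ := by rw [hrange]; rfl
      obtain ⟨y, hy⟩ := ht
      obtain ⟨w, hw, -⟩ := FEtSplit.exists_preimage_of_isPullback hpb z y (by rw [hz', hy])
      exact ⟨w, hw⟩
    · rintro ⟨w, rfl⟩
      show pullback.fst g f (m w) = t
      rw [← Scheme.Hom.comp_apply, hm₁, Scheme.Hom.comp_apply]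
      have : τ (pullback.snd f ι w) ∈ Set.range τ := ⟨_, rfl⟩
      rw [hrange] at this
      exact this
  rw [hr]
  exact isPreconnected_range m.continuous

theorem exists_preimage_eq_of_isClopen {X T : Scheme.{u}} (f : X ⟶ Spec (CommRingCat.of k))
    [PreconnectedSpace ↥(pullback f
      (Spec.map (CommRingCat.ofHom (algebraMap k (AlgebraicClosure k)))))]
    (g : T ⟶ Spec (CommRingCat.of k)) [IsFinite g] (C' : Set ↥(pullback g f)) (hC' : IsClopen C') :
    ∃ C : T.Opens, (pullback.fst g f).base ⁻¹' (C : Set T) = C' := by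
  have := discreteTopology_of_isFinite k g
  refine ⟨⟨(pullback.fst g f).base '' C', isOpen_discrete _⟩, ?_⟩
  ext z
  constructor
  · rintro ⟨z', hz', hzz'⟩
    have hpre := isPreconnected_fibre k f g (pullback.fst g f z)
    have hsub := hpre.subset_isClopen hC' ⟨z', hzz', hz'⟩
    exact hsub rfl
  · intro hz
    exact ⟨z, hz, rfl⟩

end Groth.Agent.Lib.Helper32.GeomConn
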