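import Groth.Agent.Lib.Helper32.GeomConn.Clopen
import Groth.Agent.Lib.Helper32.FEtSplit.Main

universe u

open CategoryTheory Limits AlgebraicGeometry

namespace Groth.Agent.Lib.Helper32.GeomConn

variable (k : Type u) [Field k]

set_option backward.isDefEq.respectTransparency.types false in
theorem full_key {X : Scheme.{u}} (f : X ⟶ Spec (CommRingCat.of k)) [Flat f] [Surjective f]
    [QuasiCompact f]
    [PreconnectedSpace ↥(pullback f
      (Spec.map (CommRingCat.ofHom (algebraMap k (AlgebraicClosure k)))))]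
    {V W : Scheme.{u}} (pV : V ⟶ Spec (CommRingCat.of k)) (pW : W ⟶ Spec (CommRingCat.of k))
    [IsFinite pV] [Etale pV] [IsFinite pW] [Etale pW]
    (a : pullback pV f ⟶ pullback pW f) (ha : a ≫ pullback.snd pW f = pullback.snd pV f) :
    ∃ b : V ⟶ W, b ≫ pW = pV ∧ pullback.fst pV f ≫ b = a ≫ pullback.fst pW f := by
  let T : Scheme.{u} := pullback pV pW
  let prV : T ⟶ V := pullback.fst pV pW
  let prW : T ⟶ W := pullback.snd pV pW
  have hprcond : prV ≫ pV = prW ≫ pW := pullback.condition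
  let g : T ⟶ Spec (CommRingCat.of k) := prV ≫ pV
  have hprVf : IsFinite prV := inferInstanceAs (IsFinite (pullback.fst pV pW))
  have hprVe : Etale prV := inferInstanceAs (Etale (pullback.fst pV pW))
  have hgf : IsFinite g := inferInstanceAs (IsFinite (prV ≫ pV))
  let fstT : pullback g f ⟶ T := pullback.fst g f
  let sndT : pullback g f ⟶ X := pullback.snd g f
  have hTcond : fstT ≫ g = sndT ≫ f := pullback.condition
  let v : pullback pV f ⟶ V := pullback.fst pV f
  let xV : pullback pV f ⟶ X := pullback.snd pV f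
  have hVcond : v ≫ pV = xV ≫ f := pullback.condition
  let w : pullback pW f ⟶ W := pullback.fst pW f
  let xW : pullback pW f ⟶ X := pullback.snd pW f
  have hWcond : w ≫ pW = xW ≫ f := pullback.condition
  have hvf : Flat v := inferInstanceAs (Flat (pullback.fst pV f))
  have hvs : Surjective v := inferInstanceAs (Surjective (pullback.fst pV f))
  have hvq : QuasiCompact v := inferInstanceAs (QuasiCompact (pullback.fst pV f))
  let Γ₀ : pullback pV f ⟶ T := pullback.lift v (a ≫ w)
    (by rw [Category.assoc, hWcond, ← Category.assoc, ha, hVcond])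
  have hΓ₀V : Γ₀ ≫ prV = v := pullback.lift_fst _ _ _
  have hΓ₀W : Γ₀ ≫ prW = a ≫ w := pullback.lift_snd _ _ _
  let Γ : pullback pV f ⟶ pullback g f := pullback.lift Γ₀ xV
    (by
      show Γ₀ ≫ prV ≫ pV = xV ≫ f
      rw [← Category.assoc, hΓ₀V, hVcond])
  have hΓ₁ : Γ ≫ fstT = Γ₀ := pullback.lift_fst _ _ _
  have hΓ₂ : Γ ≫ sndT = xV := pullback.lift_snd _ _ _
  let q : pullback g f ⟶ pullback pV f := pullback.lift (fstT ≫ prV) sndT
    (by rw [Category.assoc]; exact hTcond)
  have hq₁ : q ≫ v = fstT ≫ prV := pullback.lift_fst _ _ _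
  have hq₂ : q ≫ xV = sndT := pullback.lift_snd _ _ _
  have hΓq : Γ ≫ q = 𝟙 _ := by
    apply pullback.hom_ext
    · rw [Category.assoc, Category.id_comp]
      refine (congrArg (Γ ≫ ·) hq₁).trans ?_
      rw [← Category.assoc, hΓ₁, hΓ₀V]
    · rw [Category.assoc, Category.id_comp]
      refine (congrArg (Γ ≫ ·) hq₂).trans ?_
      exact hΓ₂
  have hqpb : IsPullback fstT q prV v := by
    refine IsPullback.of_bot (v₂₁ := xV) (v₂₂ := pV) (h₃₁ := f) ?_ hq₁.symm
      (IsPullback.of_hasPullback pV f)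
    rw [hq₂]
    exact IsPullback.of_hasPullback g f
  have hqe : Etale q := MorphismProperty.of_isPullback (P := @Etale) hqpb hprVe
  have hqf : IsFinite q := MorphismProperty.of_isPullback (P := @IsFinite) hqpb hprVf
  have hΓo : IsOpenImmersion Γ := FEtSplit.isOpenImmersion_of_section q Γ hΓq
  have hΓc : IsClosedImmersion Γ := by
    have : IsClosedImmersion (Γ ≫ q) := by rw [hΓq]; infer_instance
    exact IsClosedImmersion.of_comp Γ q
  have hclopen : IsClopen (Set.range Γ) :=
    ⟨Γ.isClosedEmbedding.isClosed_range, Γ.isOpenEmbedding.isOpen_range⟩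
  obtain ⟨C, hC⟩ := exists_preimage_eq_of_isClopen k f g (Set.range Γ) hclopen
  have hmemC : ∀ z : ↥(pullback g f), fstT z ∈ C ↔ z ∈ Set.range Γ := by
    intro z
    rw [← hC]
    rfl
  have hrangeγ : Set.range (Γ ≫ fstT) ⊆ Set.range C.ι := by
    rintro _ ⟨y, rfl⟩
    rw [Scheme.Opens.range_ι, Scheme.Hom.comp_apply]
    exact (hmemC _).mpr ⟨y, rfl⟩
  let γ : pullback pV f ⟶ C.toScheme := IsOpenImmersion.lift C.ι (Γ ≫ fstT) hrangeγ
  have hγ : γ ≫ C.ι = Γ ≫ fstT := IsOpenImmersion.lift_fac _ _ _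
  let c : C.toScheme ⟶ V := C.ι ≫ prV
  have hγc : γ ≫ c = v := by
    show γ ≫ C.ι ≫ prV = v
    rw [← Category.assoc, hγ, hΓ₁, hΓ₀V]
  have hkey : pullback.snd c v ≫ γ = pullback.fst c v := by
    have hcond : pullback.fst c v ≫ C.ι ≫ prV = pullback.snd c v ≫ v := pullback.condition
    let ζ' : pullback c v ⟶ pullback g f :=
      pullback.lift (pullback.fst c v ≫ C.ι) (pullback.snd c v ≫ xV)
        (by
          show (pullback.fst c v ≫ C.ι) ≫ prV ≫ pV = (pullback.snd c v ≫ xV) ≫ f
          rw [Category.assoc, ← Category.assoc C.ι, ← Category.assoc, hcond, Category.assoc,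
            Category.assoc, hVcond])
    have hζ'₁ : ζ' ≫ fstT = pullback.fst c v ≫ C.ι := pullback.lift_fst _ _ _
    have hζ'₂ : ζ' ≫ sndT = pullback.snd c v ≫ xV := pullback.lift_snd _ _ _
    have hrangeζ : Set.range ζ' ⊆ Set.range Γ := by
      rintro _ ⟨y, rfl⟩
      rw [← hmemC, ← Scheme.Hom.comp_apply, hζ'₁, Scheme.Hom.comp_apply]
      have hmem : C.ι (pullback.fst c v y) ∈ Set.range C.ι := ⟨_, rfl⟩
      rw [Scheme.Opens.range_ι] at hmem
      exact hmem
    let ζ : pullback c v ⟶ pullback pV f := IsOpenImmersion.lift Γ ζ' hrangeζ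
    have hζ : ζ ≫ Γ = ζ' := IsOpenImmersion.lift_fac _ _ _
    have hζsnd : ζ = pullback.snd c v := by
      have h1 : ζ = ζ' ≫ q := by
        rw [← hζ, Category.assoc, hΓq, Category.comp_id]
      rw [h1]
      apply pullback.hom_ext
      · rw [Category.assoc]
        refine (congrArg (ζ' ≫ ·) hq₁).trans ?_
        rw [← Category.assoc, hζ'₁, Category.assoc]
        exact hcond
      · rw [Category.assoc]
        refine (congrArg (ζ' ≫ ·) hq₂).trans ?_
        exact hζ'₂
    have h2 : pullback.snd c v ≫ Γ = ζ' := by rw [← hζsnd]; exact hζ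
    have hmono : Mono C.ι := inferInstance
    rw [← cancel_mono C.ι, Category.assoc, hγ, ← Category.assoc, h2, hζ'₁]
  let s : pullback pV f ⟶ pullback c v := pullback.lift γ (𝟙 _) (by rw [hγc, Category.id_comp])
  have hs₁ : s ≫ pullback.fst c v = γ := pullback.lift_fst _ _ _
  have hs₂ : s ≫ pullback.snd c v = 𝟙 _ := pullback.lift_snd _ _ _
  have hiso : IsIso (pullback.snd c v) := by
    refine ⟨s, ?_, hs₂⟩
    apply pullback.hom_ext
    · rw [Category.assoc, Category.id_comp, hs₁, hkey]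
    · rw [Category.assoc, Category.id_comp, hs₂, Category.comp_id]
  have hQ : (@Surjective ⊓ @Flat ⊓ @QuasiCompact : MorphismProperty Scheme.{u}) v :=
    ⟨⟨hvs, hvf⟩, hvq⟩
  have hciso : IsIso c :=
    MorphismProperty.of_pullback_snd_of_descendsAlong (P := MorphismProperty.isomorphisms Scheme.{u})
      (Q := @Surjective ⊓ @Flat ⊓ @QuasiCompact) hQ hiso
  refine ⟨inv c ≫ C.ι ≫ prW, ?_, ?_⟩
  · rw [Category.assoc, Category.assoc, ← hprcond, IsIso.inv_comp_eq]
    rfl
  · have h3 : v ≫ inv c = γ := by rw [← hγc, Category.assoc, IsIso.hom_inv_id, Category.comp_id]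
    show v ≫ inv c ≫ C.ι ≫ prW = a ≫ w
    rw [← Category.assoc, h3, ← Category.assoc, hγ, hΓ₁, hΓ₀W]

end Groth.Agent.Lib.Helper32.GeomConn
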