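import Groth.Agent.Lib.Helper32.FEtSplit.Split

universe u

open CategoryTheory Limits AlgebraicGeometry

namespace Groth.Agent.Lib.Helper32.GeomConn

variable (k : Type u) [Field k]

theorem discreteTopology_of_isFinite {T : Scheme.{u}} (g : T ⟶ Spec (CommRingCat.of k))
    [IsFinite g] : DiscreteTopology T := by
  have : IsAffine T := isAffine_of_isAffineHom g
  have hfin : g.appTop.hom.Finite := g.finite_appTop
  let φ : CommRingCat.of k ⟶ Γ(T, ⊤) := (Scheme.ΓSpecIso (CommRingCat.of k)).inv ≫ g.appTop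
  have hφ : φ.hom.Finite := by
    show (g.appTop.hom.comp (Scheme.ΓSpecIso (CommRingCat.of k)).inv.hom).Finite
    exact RingHom.Finite.comp hfin
      (RingHom.Finite.of_surjective _ (ConcreteCategory.bijective_of_isIso _).surjective)
  algebraize [φ.hom]
  have : IsArtinianRing Γ(T, ⊤) := isArtinian_of_tower k inferInstance
  have : DiscreteTopology (Spec Γ(T, ⊤)) :=
    inferInstanceAs (DiscreteTopology (PrimeSpectrum Γ(T, ⊤)))
  exact T.isoSpec.hom.homeomorph.symm.discreteTopology

theorem exists_geomPoint {T : Scheme.{u}} (g : T ⟶ Spec (CommRingCat.of k)) [IsFinite g] (t : T) :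
    ∃ τ : Spec (CommRingCat.of (AlgebraicClosure k)) ⟶ T,
      τ ≫ g = Spec.map (CommRingCat.ofHom (algebraMap k (AlgebraicClosure k))) ∧
      Set.range τ = {t} := by
  have : IsAffine T := isAffine_of_isAffineHom g
  have hfin : g.appTop.hom.Finite := g.finite_appTop
  let φ : CommRingCat.of k ⟶ Γ(T, ⊤) := (Scheme.ΓSpecIso (CommRingCat.of k)).inv ≫ g.appTop
  have hφ : φ.hom.Finite := by
    show (g.appTop.hom.comp (Scheme.ΓSpecIso (CommRingCat.of k)).inv.hom).Finite
    exact RingHom.Finite.comp hfin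
      (RingHom.Finite.of_surjective _ (ConcreteCategory.bijective_of_isIso _).surjective)
  have hg : g = T.isoSpec.hom ≫ Spec.map φ := FEtSplit.eq_isoSpec_hom_comp_SpecMap g
  algebraize [φ.hom]
  let p : Ideal Γ(T, ⊤) := (T.isoSpec.hom t).asIdeal
  have hp : p.IsPrime := (T.isoSpec.hom t).isPrime
  have : Module.Finite k (Γ(T, ⊤) ⧸ p) :=
    Module.Finite.of_surjective (Ideal.Quotient.mkₐ k p).toLinearMap
      (Ideal.Quotient.mkₐ_surjective k p)
  let e : (Γ(T, ⊤) ⧸ p) →ₐ[k] AlgebraicClosure k := IsAlgClosed.lift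
  let ψ : Γ(T, ⊤) →ₐ[k] AlgebraicClosure k := e.comp (Ideal.Quotient.mkₐ k p)
  refine ⟨Spec.map (CommRingCat.ofHom ψ.toRingHom) ≫ T.isoSpec.inv, ?_, ?_⟩
  · rw [hg, Category.assoc, Iso.inv_hom_id_assoc, ← Spec.map_comp]
    congr 1
    ext x
    exact ψ.commutes x
  · have : IsArtinianRing Γ(T, ⊤) := isArtinian_of_tower k inferInstance
    have hmax : p.IsMaximal := IsArtinianRing.isMaximal_of_isPrime p
    have hinj : Function.Injective e := by
      let _ := Ideal.Quotient.field p
      exact e.toRingHom.injective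
    have hker : RingHom.ker ψ.toRingHom = p := by
      ext x
      show e (Ideal.Quotient.mk p x) = 0 ↔ x ∈ p
      rw [map_eq_zero_iff e hinj, Ideal.Quotient.eq_zero_iff_mem]
    have hpt : ∀ y : Spec (CommRingCat.of (AlgebraicClosure k)),
        (Spec.map (CommRingCat.ofHom ψ.toRingHom) ≫ T.isoSpec.inv) y = t := by
      intro y
      rw [Scheme.Hom.comp_apply]
      have h1 : Spec.map (CommRingCat.ofHom ψ.toRingHom) y = T.isoSpec.hom t := by
        apply PrimeSpectrum.ext
        show Ideal.comap ψ.toRingHom y.asIdeal = p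
        have hy : y.asIdeal = ⊥ := by
          have := y.isPrime
          exact (Ideal.eq_bot_or_top y.asIdeal).resolve_right this.ne_top
        rw [hy, ← RingHom.ker_eq_comap_bot, hker]
      rw [h1, ← Scheme.Hom.comp_apply, Iso.hom_inv_id]
      rfl
    ext z
    constructor
    · rintro ⟨y, rfl⟩
      exact hpt y
    · rintro rfl
      exact ⟨⟨⊥, Ideal.isPrime_bot⟩, hpt _⟩

end Groth.Agent.Lib.Helper32.GeomConn
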